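import Mathlib

/-!
# Finite free covers splitting standard étale algebras
-/

set_option autoImplicit false

universe u

open Polynomial TensorProduct

namespace GrothLib.EtaleFiniteCover

/-- The covering property: all points of `S` lift locally on `S'`. -/
def Covers (R S S' : Type u) [CommRing R] [CommRing S] [CommRing S'] [Algebra R S] [Algebra R S'] : Prop :=
  ∀ (q : Ideal S) [q.IsPrime] (q' : Ideal S') [q'.IsPrime], q'.under R = q.under R →
    ∃ (g' : S') (_ : g' ∉ q') (φ : S →ₐ[R] Localization.Away g'),
      (q'.map (algebraMap S' (Localization.Away g'))).comap φ = q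

theorem exists_cover (R S : Type u) [CommRing R] [CommRing S] [Algebra R S] [Algebra.IsStandardEtale R S] :
    ∃ (S' : Type u) (_ : CommRing S') (_ : Algebra R S'),
      Module.Finite R S' ∧ Algebra.FinitePresentation R S' ∧ Module.FaithfullyFlat R S' ∧
        Covers R S S' := by
  classical
  rcases subsingleton_or_nontrivial R with hR | hR
  · refine ⟨R, inferInstance, inferInstance, inferInstance, inferInstance, inferInstance, ?_⟩
    intro q _ q' hq' _
    exact absurd (Subsingleton.elim q' ⊤) hq'.ne_top
  obtain ⟨P⟩ := ‹Algebra.IsStandardEtale R S›.nonempty_standardEtalePresentation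
  obtain ⟨S', _, _, _, _, _, hsplit⟩ := P.monic_f.exists_splits_map
  obtain ⟨m, hm⟩ : ∃ m : Multiset S', P.f.map (algebraMap R S') = (m.map (X - C ·)).prod := by
    obtain ⟨m, hm⟩ := splits_iff_exists_multiset.mp hsplit
    exact ⟨m, by rwa [(P.monic_f.map (algebraMap R S')).leadingCoeff, C_1, one_mul] at hm⟩
  haveI : Module.FinitePresentation R S' := Module.finitePresentation_of_projective R S'
  refine ⟨S', inferInstance, inferInstance, inferInstance, inferInstance, inferInstance, ?_⟩
  intro q _ q' _ hqq'
  let p := q.under R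
  letI : Algebra p.ResidueField q.ResidueField :=
    (Ideal.ResidueField.mapₐ p q (Algebra.ofId R S) rfl).toRingHom.toAlgebra
  haveI : IsScalarTower R p.ResidueField q.ResidueField := IsScalarTower.of_algebraMap_eq fun r =>
    ((Ideal.ResidueField.mapₐ p q (Algebra.ofId R S) rfl).commutes r).symm
  let χ : S' →ₐ[R] AlgebraicClosure q'.ResidueField :=
    (IsScalarTower.toAlgHom R q'.ResidueField _).comp (IsScalarTower.toAlgHom R S' q'.ResidueField)
  have hχ : ∀ s, χ s = 0 ↔ s ∈ q' := fun s => by
    show algebraMap q'.ResidueField (AlgebraicClosure q'.ResidueField) (algebraMap S' q'.ResidueField s) = 0 ↔ _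
    rw [map_eq_zero, Ideal.algebraMap_residueField_eq_zero]
  letI : Algebra p.ResidueField (AlgebraicClosure q'.ResidueField) :=
    ((algebraMap q'.ResidueField (AlgebraicClosure q'.ResidueField)).comp
      (Ideal.ResidueField.mapₐ p q' (Algebra.ofId R S') hqq'.symm).toRingHom).toAlgebra
  haveI : IsScalarTower R p.ResidueField (AlgebraicClosure q'.ResidueField) :=
    IsScalarTower.of_algebraMap_eq fun r => by
      show _ = algebraMap q'.ResidueField (AlgebraicClosure q'.ResidueField)
        (Ideal.ResidueField.mapₐ p q' (Algebra.ofId R S') hqq'.symm (algebraMap R p.ResidueField r))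
      rw [AlgHom.commutes, ← IsScalarTower.algebraMap_apply]
  let π : S →ₐ[R] q.ResidueField := IsScalarTower.toAlgHom R S q.ResidueField
  let x₀ := π P.x
  have hint : IsIntegral p.ResidueField x₀ :=
    IsIntegral.tower_top (R := R) ⟨P.f, P.monic_f, (P.hasMap.map π).1⟩
  let K := IntermediateField.adjoin p.ResidueField {x₀}
  haveI : FiniteDimensional p.ResidueField K := IntermediateField.adjoin.finiteDimensional hint
  let xK : K := ⟨x₀, IntermediateField.mem_adjoin_simple_self _ _⟩
  let ι : K →ₐ[R] q.ResidueField := K.val.restrictScalars R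
  have hxK : P.HasMap xK := by
    refine ⟨ι.toRingHom.injective ?_, isUnit_iff_ne_zero.mpr fun h => ?_⟩
    · show ι (aeval xK P.f) = ι 0
      rw [map_zero, ← aeval_algHom_apply]
      exact (P.hasMap.map π).1
    · have h2 := congrArg ι h
      rw [map_zero, ← aeval_algHom_apply] at h2
      exact (P.hasMap.map π).2.ne_zero h2
  let e := P.equivRing
  let toK : S →ₐ[R] K := (P.lift xK hxK).comp e.toAlgHom
  have hπ : ι.comp toK = π := by
    have h1 : (ι.comp (P.lift xK hxK)) = π.comp e.symm.toAlgHom := by
      apply StandardEtalePair.hom_ext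
      rw [AlgHom.comp_apply, P.lift_X]
      exact congrArg π P.equivRing_symm_X.symm
    refine AlgHom.ext fun s => ?_
    have h2 := AlgHom.congr_fun h1 (e s)
    simpa [toK] using h2
  let σ : K →ₐ[p.ResidueField] AlgebraicClosure q'.ResidueField := IsAlgClosed.lift
  let θ : S →ₐ[R] AlgebraicClosure q'.ResidueField := (σ.restrictScalars R).comp toK
  have hθ : ∀ s, θ s = 0 ↔ s ∈ q := fun s => by
    show σ (toK s) = 0 ↔ _
    rw [map_eq_zero_iff σ σ.toRingHom.injective, ← map_eq_zero_iff ι ι.toRingHom.injective,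
      show ι (toK s) = π s from AlgHom.congr_fun hπ s]
    exact Ideal.algebraMap_residueField_eq_zero
  obtain ⟨a, ha, hax⟩ : ∃ a ∈ m, χ a = θ P.x := by
    have h0 : aeval (θ P.x) P.f = 0 := (P.hasMap.map θ).1
    rw [aeval_def, ← χ.comp_algebraMap, ← eval₂_map, hm, eval₂_multiset_prod, Multiset.map_map,
      Multiset.prod_eq_zero_iff, Multiset.mem_map] at h0
    obtain ⟨a, ha, h0⟩ := h0
    simp only [Function.comp_apply, eval₂_sub, eval₂_X, eval₂_C, sub_eq_zero] at h0
    exact ⟨a, ha, h0.symm⟩
  let g' := aeval a P.g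
  have hg' : g' ∉ q' := by
    rw [← hχ, ← aeval_algHom_apply, hax]
    exact (P.hasMap.map θ).2.ne_zero
  let loc : S' →ₐ[R] Localization.Away g' := IsScalarTower.toAlgHom R S' _
  have hmap : P.HasMap (loc a) := by
    refine ⟨?_, ?_⟩
    · rw [aeval_algHom_apply, aeval_def, ← eval_map, hm, eval_multiset_prod, Multiset.map_map,
        Multiset.prod_eq_zero (Multiset.mem_map.mpr ⟨a, ha, by simp⟩), map_zero]
    · rw [aeval_algHom_apply]
      exact IsLocalization.map_units (M := Submonoid.powers g') (Localization.Away g') ⟨g', Submonoid.mem_powers g'⟩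
  let φ : S →ₐ[R] Localization.Away g' := (P.lift (loc a) hmap).comp e.toAlgHom
  refine ⟨g', hg', φ, ?_⟩
  let χ' : Localization.Away g' →ₐ[R] AlgebraicClosure q'.ResidueField :=
    IsLocalization.liftAlgHom (M := Submonoid.powers g') (f := χ) fun y => by
      obtain ⟨n, hn⟩ := y.2
      rw [← hn, map_pow]
      exact (isUnit_iff_ne_zero.mpr (mt (hχ g').mp hg')).pow n
  have hχ' : ∀ s, χ' (algebraMap S' _ s) = χ s := fun s => IsLocalization.lift_eq _ s
  have hφθ : ∀ s, χ' (φ s) = θ s := fun s => by
    have h1 : χ'.comp (P.lift (loc a) hmap) = θ.comp e.symm.toAlgHom := by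
      apply StandardEtalePair.hom_ext
      rw [AlgHom.comp_apply, P.lift_X]
      exact (hχ' a).trans (hax.trans (congrArg θ P.equivRing_symm_X.symm))
    have h2 := AlgHom.congr_fun h1 (e s)
    simpa [φ] using h2
  have hker : RingHom.ker χ'.toRingHom = q'.map (algebraMap S' (Localization.Away g')) := by
    rw [← IsLocalization.map_under (Submonoid.powers g') (Localization.Away g') (RingHom.ker χ'.toRingHom)]
    congr 1
    ext s
    show χ' (algebraMap S' _ s) = 0 ↔ _
    rw [hχ', hχ]
  ext s
  rw [← hker]
  show χ' (φ s) = 0 ↔ _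
  rw [hφθ, hθ]

/-- An étale algebra with surjective spectrum admits local sections after a finite flat cover. -/
theorem exists_cover_etale (R : Type u) [CommRing R] (S : Type u) [CommRing S] [Algebra R S]
    [Algebra.Etale R S] (hs : Function.Surjective (PrimeSpectrum.comap (algebraMap R S))) :
    ∃ (S' : Type u) (_ : CommRing S') (_ : Algebra R S'),
      Module.Finite R S' ∧ Algebra.FinitePresentation R S' ∧ Module.FaithfullyFlat R S' ∧
        ∀ (q' : Ideal S') [q'.IsPrime], ∃ (g' : S') (_ : g' ∉ q'),
          Nonempty (S →ₐ[R] Localization.Away g') := by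
  classical
  have hloc : ∀ q : PrimeSpectrum S, ∃ g : S, g ∉ q.asIdeal ∧ Algebra.IsStandardEtale R (Localization.Away g) :=
    fun q => Algebra.IsEtaleAt.exists_isStandardEtale (R := R) q.asIdeal
  choose g hg hstd using hloc
  obtain ⟨t, ht⟩ := isCompact_univ.elim_finite_subcover
    (fun q : PrimeSpectrum S => (PrimeSpectrum.basicOpen (g q) : Set (PrimeSpectrum S)))
    (fun q => (PrimeSpectrum.basicOpen (g q)).2) (fun q _ => Set.mem_iUnion.mpr ⟨q, hg q⟩)
  choose T _ _ hTfin hTfp hTff hTcov using fun q : PrimeSpectrum S =>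
    haveI := hstd q
    exists_cover R (Localization.Away (g q))
  suffices key : ∀ s : Finset (PrimeSpectrum S), ∃ (S' : Type u) (_ : CommRing S') (_ : Algebra R S'),
      Module.Finite R S' ∧ Algebra.FinitePresentation R S' ∧ Module.FaithfullyFlat R S' ∧
        ∀ (q' : Ideal S') [q'.IsPrime] (q : PrimeSpectrum S), q ∈ s →
          ∀ (r : Ideal S) [r.IsPrime], g q ∉ r → r.under R = q'.under R →
            ∃ (g' : S') (_ : g' ∉ q'), Nonempty (S →ₐ[R] Localization.Away g') by
    obtain ⟨S', _, _, h1, h2, h3, h4⟩ := key t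
    refine ⟨S', inferInstance, inferInstance, h1, h2, h3, fun q' _ => ?_⟩
    obtain ⟨r, hr⟩ := hs ⟨q'.under R, inferInstance⟩
    obtain ⟨q, hq, hrq⟩ := Set.mem_iUnion₂.mp (ht (Set.mem_univ r))
    exact h4 q' q hq r.asIdeal hrq (congrArg PrimeSpectrum.asIdeal hr)
  intro s
  induction s using Finset.induction with
  | empty =>
    exact ⟨R, inferInstance, inferInstance, inferInstance, inferInstance, inferInstance,
      fun q' _ q hq => absurd hq (Finset.notMem_empty q)⟩
  | insert q₀ s hq₀ ih =>
    obtain ⟨S₁, _, _, h1, h2, h3, h4⟩ := ih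
    haveI := hTfin q₀
    haveI := hTfp q₀
    haveI := hTff q₀
    haveI : Module.FaithfullyFlat R (T q₀ ⊗[R] S₁) := Module.FaithfullyFlat.trans R (T q₀) _
    haveI : Algebra.FinitePresentation R (T q₀ ⊗[R] S₁) := Algebra.FinitePresentation.trans R (T q₀) _
    refine ⟨T q₀ ⊗[R] S₁, inferInstance, inferInstance, inferInstance, inferInstance, inferInstance, ?_⟩
    intro q' _ q hq r _ hr hrq
    have push : ∀ {A : Type u} [CommRing A] [Algebra R A] (ι : A →ₐ[R] T q₀ ⊗[R] S₁) (a : A),
        a ∉ q'.comap ι → Nonempty (S →ₐ[R] Localization.Away a) →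
        ∃ (g' : T q₀ ⊗[R] S₁) (_ : g' ∉ q'), Nonempty (S →ₐ[R] Localization.Away g') := by
      intro A _ _ ι a ha hφ
      obtain ⟨φ⟩ := hφ
      refine ⟨ι a, ha, ⟨(IsLocalization.liftAlgHom (M := Submonoid.powers a)
        (f := (IsScalarTower.toAlgHom R (T q₀ ⊗[R] S₁) (Localization.Away (ι a))).comp ι) fun y => by
          obtain ⟨n, hn⟩ := y.2
          rw [← hn, map_pow]
          exact (IsLocalization.map_units (M := Submonoid.powers (ι a)) (Localization.Away (ι a))
            ⟨ι a, Submonoid.mem_powers _⟩).pow n).comp φ⟩⟩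
    rcases Finset.mem_insert.mp hq with rfl | hq
    · let ι : T q →ₐ[R] T q ⊗[R] S₁ := Algebra.TensorProduct.includeLeft
      let L := Localization.Away (g q)
      haveI : (r.map (algebraMap S L)).IsPrime := IsLocalization.isPrime_of_isPrime_disjoint
        (Submonoid.powers (g q)) L r inferInstance ((Ideal.disjoint_powers_iff_notMem_of_isPrime (g q)).mpr hr)
      have hu : (q'.comap ι).under R = (r.map (algebraMap S L)).under R := by
        have h5 : (r.map (algebraMap S L)).under S = r :=
          IsLocalization.under_map_of_isPrime_disjoint (Submonoid.powers (g q)) L inferInstance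
            ((Ideal.disjoint_powers_iff_notMem_of_isPrime (g q)).mpr hr)
        conv_rhs => rw [← Ideal.under_under (B := S), h5, hrq]
        ext x
        show ι (algebraMap R (T q) x) ∈ q' ↔ _
        rw [AlgHom.commutes]
        rfl
      obtain ⟨a, ha, φ, -⟩ := hTcov q (r.map (algebraMap S L)) (q'.comap ι) hu
      exact push ι a ha ⟨φ.comp (IsScalarTower.toAlgHom R S L)⟩
    · let ι : S₁ →ₐ[R] T q₀ ⊗[R] S₁ := Algebra.TensorProduct.includeRight
      obtain ⟨a, ha, hφ⟩ := h4 (q'.comap ι) q hq r hr (by
        rw [hrq]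
        ext x
        show _ ↔ ι (algebraMap R S₁ x) ∈ q'
        rw [AlgHom.commutes]
        rfl)
      exact push ι a ha hφ

end GrothLib.EtaleFiniteCover
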